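import Cfsg.Agent.LThreeCo1.Ev
import Cfsg.Agent.Co2Type.Mono
import Cfsg.Agent.SporadicStructure.Co0Base
import Cfsg.Agent.FastGrp
import Cfsg.Agent.Prune
set_option linter.all false
prune_inst 0x7f00000000000000000000000000000000000000000000000000000000000000000000000000000000000000000000000000000000000000000000000000000000000000000000000000000000000000003fffffffffffffffffffffffffffbeffbdffffffff
open scoped Cfsg.Agent.FastGrp

/-!
# Traces of powers of words of `Co0` from the image of `beta` (helper752)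

`beta = ∑ 64 ^ i • e8 i`, so `g beta` contains the whole matrix of `g`.
* `tr8_inv_word` : `tr8 (w⁻¹)` from the image of `beta` under the word `w`;
* `inv6` : the list of the traces of the powers `1, .., 6` (absolute value for odd exponents), a class function on `Co1`.
-/

set_option autoImplicit false

namespace Cfsg.Agent.H752.CoInv

open Cfsg Cfsg.Agent.SporadicA Cfsg.Agent.SporadicStructure Cfsg.Agent.SporadicStructure.Co0Matrix
open Cfsg.Agent.CoOneType.CoEval Cfsg.Agent.LThreeCo1.Ev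
open Cfsg.Agent.Co2Type.Mono (tr8 tr8_conj)

/-! ### digits -/

theorem nat_digit (a : ℕ → ℕ) (n : ℕ) (ha : ∀ i, i < n → a i < 64) : ∀ j, j < n →
    (∑ i ∈ Finset.range n, a i * 64 ^ i) / 64 ^ j % 64 = a j := by
  induction n generalizing a with
  | zero => intro j hj; omega
  | succ n ih =>
    intro j hj
    have e : ∑ i ∈ Finset.range (n + 1), a i * 64 ^ i =
        a 0 + 64 * ∑ i ∈ Finset.range n, a (i + 1) * 64 ^ i := by
      rw [Finset.sum_range_succ', Finset.mul_sum, pow_zero, mul_one, add_comm]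
      congr 1
      exact Finset.sum_congr rfl fun i _ => by rw [pow_succ]; ring
    have h0 := ha 0 (by omega)
    rw [e]
    cases j with
    | zero => rw [pow_zero, Nat.div_one]; omega
    | succ j =>
      rw [pow_succ', ← Nat.div_div_eq_div_mul]
      have h1 : (a 0 + 64 * ∑ i ∈ Finset.range n, a (i + 1) * 64 ^ i) / 64 =
          ∑ i ∈ Finset.range n, a (i + 1) * 64 ^ i := by omega
      rw [h1]
      exact ih (fun i => a (i + 1)) (fun i hi => ha (i + 1) (by omega)) j (by omega)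

/-- the offset `32 * ∑ 64 ^ i` -/
def off : ℤ := 11327362640523491119510206106742024891926560

theorem off_eq : off = ∑ i ∈ Finset.range 24, 32 * 64 ^ i := by
  rw [Finset.sum_range_succ_comm]
  simp only [Finset.sum_range_succ, Finset.sum_range_zero]
  norm_num [off]

/-- the balanced digit -/
def dg (z : ℤ) (j : ℕ) : ℤ := (((z + off).toNat / 64 ^ j % 64 : ℕ) : ℤ) - 32

theorem dg_spec (d : ℕ → ℤ) (hd : ∀ i, i < 24 → |d i| ≤ 8) {j : ℕ} (hj : j < 24) :
    dg (∑ i ∈ Finset.range 24, d i * 64 ^ i) j = d j := by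
  have h1 : ∑ i ∈ Finset.range 24, d i * 64 ^ i + off =
      ((∑ i ∈ Finset.range 24, (d i + 32).toNat * 64 ^ i : ℕ) : ℤ) := by
    rw [off_eq, ← Finset.sum_add_distrib]
    push_cast
    refine Finset.sum_congr rfl fun i hi => ?_
    have := abs_le.1 (hd i (Finset.mem_range.1 hi))
    rw [Int.toNat_of_nonneg (by omega)]
    ring
  unfold dg
  rw [h1, Int.toNat_natCast, nat_digit (fun i => (d i + 32).toNat) 24 (fun i hi => by
    have := abs_le.1 (hd i hi)
    have h2 : (d i + 32).toNat < 64 := by omega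
    exact h2) j hj]
  have := abs_le.1 (hd j hj)
  show (((d j + 32).toNat : ℕ) : ℤ) - 32 = d j
  rw [Int.toNat_of_nonneg (by omega)]
  ring

/-- the trace -/
def trB (l : List ℤ) : ℤ := ((List.range 24).map fun j => dg (l.getD j 0) j).sum

theorem dot_e8 (v : GolayPt → ℤ) (p : GolayPt) : dotInt v ((Co0Basic.e8 p : leechLattice) : GolayPt → ℤ) = 8 * v p := by
  unfold dotInt
  rw [Finset.sum_eq_single p]
  · rw [Co0Basic.e8_apply, if_pos rfl]; ring
  · intro j _ hj
    rw [Co0Basic.e8_apply, if_neg hj, mul_zero]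
  · intro h; exact absurd (Finset.mem_univ p) h

/-- the coordinates of `g beta` -/
theorem coord (g : Co0) (p : GolayPt) : ((g.1 beta : leechLattice) : GolayPt → ℤ) p =
    ∑ i ∈ Finset.range 24, ((g⁻¹.1 (Co0Basic.e8 p) : leechLattice) : GolayPt → ℤ) (GolayBase.pt i) * 64 ^ i := by
  have h1 := Co0Basic.map_dot g⁻¹ (g.1 beta) (Co0Basic.e8 p)
  have h2 : (g⁻¹).1 (g.1 beta) = beta := congrArg (fun x : Co0 => x.1 beta) (inv_mul_cancel g)
  rw [h2, dot_e8, beta_coe, dot_beta] at h1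
  omega

theorem tr8_inv (g : Co0) {l : List ℤ} (h : ((g.1 beta : leechLattice) : GolayPt → ℤ) = vec l) :
    tr8 g⁻¹ = trB l := by
  have h1 : ∀ j, j < 24 → dg (l.getD j 0) j =
      ((g⁻¹.1 (Co0Basic.e8 (GolayBase.pt j)) : leechLattice) : GolayPt → ℤ) (GolayBase.pt j) := by
    intro j hj
    have h2 : l.getD j 0 = ((g.1 beta : leechLattice) : GolayPt → ℤ) (GolayBase.pt j) := by
      rw [h, vec_apply, GolayBase.idx_pt hj]
    rw [h2, coord, dg_spec _ (fun i _ => ?_) hj]
    refine abs_le_of_norm ?_ _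
    rw [Co0Basic.map_sqNorm]
    exact sqNorm_e8 _
  have h2 : trB l = ∑ j ∈ Finset.range 24, dg (l.getD j 0) j := by
    unfold trB
    rw [Finset.sum, Finset.range_val, Multiset.range, Multiset.map_coe, Multiset.sum_coe]
  rw [h2, Finset.sum_congr rfl (fun j hj => h1 j (Finset.mem_range.1 hj)), ← GolayBase.sum_pt
    (fun p => ((g⁻¹.1 (Co0Basic.e8 p) : leechLattice) : GolayPt → ℤ) p)]
  rfl

/-! ### words -/

section

variable {e : ℕ → Co0} {M : ℕ → List (List ℤ)}

/-- the images of `beta` under the powers of a word -/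
def itr (M : ℕ → List (List ℤ)) (w : List ℕ) : ℕ → List ℤ
  | 0 => betaL
  | k + 1 => foldZ M w (itr M w k)

theorem itr_spec (hM : ∀ i, Rep (e i) (M i)) (w : List ℕ) (k : ℕ) : (itr M w k).length ≤ 24 ∧
    (((((w.map e).prod ^ k : Co0)).1 beta : leechLattice) : GolayPt → ℤ) = vec (itr M w k) := by
  induction k with
  | zero => exact ⟨show betaL.length ≤ 24 by decide, by rw [pow_zero]; rfl⟩
  | succ k ih =>
    have h := fold_spec hM w ih.1 ih.2
    rw [← foldZ_eq] at h
    refine ⟨h.1, ?_⟩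
    rw [pow_succ']
    exact h.2

/-- the invariant of a word -/
def invW (M : ℕ → List (List ℤ)) (w : List ℕ) : List ℤ :=
  let l1 := foldZ M w betaL
  let l2 := foldZ M w l1
  let l3 := foldZ M w l2
  let l4 := foldZ M w l3
  let l5 := foldZ M w l4
  let l6 := foldZ M w l5
  [((trB l1).natAbs : ℤ), trB l2, ((trB l3).natAbs : ℤ), trB l4, ((trB l5).natAbs : ℤ), trB l6]

end

/-- the invariant of an element of `Co0` -/
noncomputable def inv6 (g : Co0) : List ℤ :=
  [((tr8 g⁻¹).natAbs : ℤ), tr8 (g ^ 2)⁻¹, ((tr8 (g ^ 3)⁻¹).natAbs : ℤ), tr8 (g ^ 4)⁻¹, ((tr8 (g ^ 5)⁻¹).natAbs : ℤ),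
    tr8 (g ^ 6)⁻¹]

theorem inv6_word {e : ℕ → Co0} {M : ℕ → List (List ℤ)} (hM : ∀ i, Rep (e i) (M i)) (w : List ℕ) :
    inv6 (w.map e).prod = invW M w := by
  have h := fun k => tr8_inv _ (itr_spec hM w k).2
  unfold inv6 invW
  have h1 := h 1
  rw [pow_one] at h1
  rw [h1, h 2, h 3, h 4, h 5, h 6]
  rfl

theorem inv6_conj (g c : Co0) : inv6 (c * g * c⁻¹) = inv6 g := by
  have key : ∀ k : ℕ, tr8 ((c * g * c⁻¹) ^ k)⁻¹ = tr8 (g ^ k)⁻¹ := by
    intro k
    rw [conj_pow, ← tr8_conj c (g ^ k)⁻¹]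
    congr 1
  unfold inv6
  have h1 := key 1
  rw [pow_one, pow_one] at h1
  rw [h1, key 2, key 3, key 4, key 5, key 6]

theorem tr8_neg (g : Co0) : tr8 (g * Co0Basic.negCo0) = -tr8 g := by
  unfold tr8
  rw [← Finset.sum_neg_distrib]
  refine Finset.sum_congr rfl fun i _ => ?_
  have h1 : ((g * Co0Basic.negCo0) • Co0Base.e8 i : leechLattice) = -(g • Co0Base.e8 i) := by
    show g.1 (Co0Basic.negCo0.1 (Co0Base.e8 i)) = -(g.1 (Co0Base.e8 i))
    rw [Co0Basic.negCo0_apply]
    exact Co0Basic.map_neg g _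
  rw [h1]
  rfl

theorem neg_sq : (Co0Basic.negCo0 : Co0) * Co0Basic.negCo0 = 1 := Subtype.ext (Equiv.ext fun v => neg_neg v)

theorem neg_comm (g : Co0) : g * Co0Basic.negCo0 = Co0Basic.negCo0 * g := by
  apply Subtype.ext
  apply Equiv.ext
  intro v
  exact Co0Basic.map_neg g v

theorem neg_inv : (Co0Basic.negCo0 : Co0)⁻¹ = Co0Basic.negCo0 := inv_eq_of_mul_eq_one_left neg_sq

theorem inv6_neg (g : Co0) : inv6 (g * Co0Basic.negCo0) = inv6 g := by
  have hc : Commute g Co0Basic.negCo0 := neg_comm g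
  have h0 : ∀ x : Co0, tr8 (x * Co0Basic.negCo0)⁻¹ = -tr8 x⁻¹ := by
    intro x
    rw [mul_inv_rev, neg_inv, ← neg_comm, tr8_neg]
  have h2 : (Co0Basic.negCo0 : Co0) ^ 2 = 1 := by rw [pow_two, neg_sq]
  have key2 : ∀ k : ℕ, (g * Co0Basic.negCo0) ^ (2 * k) = g ^ (2 * k) := by
    intro k
    rw [hc.mul_pow, pow_mul Co0Basic.negCo0, h2, one_pow, mul_one]
  have key1 : ∀ k : ℕ, (g * Co0Basic.negCo0) ^ (2 * k + 1) = g ^ (2 * k + 1) * Co0Basic.negCo0 := by
    intro k
    rw [hc.mul_pow, pow_succ Co0Basic.negCo0, pow_mul Co0Basic.negCo0, h2, one_pow, one_mul]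
  unfold inv6
  rw [h0, show (g * Co0Basic.negCo0) ^ 2 = g ^ 2 from key2 1, show (g * Co0Basic.negCo0) ^ 4 = g ^ 4 from key2 2,
    show (g * Co0Basic.negCo0) ^ 6 = g ^ 6 from key2 3, show (g * Co0Basic.negCo0) ^ 3 = g ^ 3 * Co0Basic.negCo0 from key1 1,
    show (g * Co0Basic.negCo0) ^ 5 = g ^ 5 * Co0Basic.negCo0 from key1 2, h0, h0, Int.natAbs_neg, Int.natAbs_neg,
    Int.natAbs_neg]

/-- `inv6` is a class function on `Co1`. -/
theorem inv6_of_isConj {g h : Co0} (hgh : IsConj (QuotientGroup.mk g : Co0 ⧸ Subgroup.center Co0)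
    (QuotientGroup.mk h : Co0 ⧸ Subgroup.center Co0)) : inv6 g = inv6 h := by
  obtain ⟨q, hq⟩ := isConj_iff.1 hgh
  obtain ⟨c, rfl⟩ := QuotientGroup.mk_surjective q
  have h1 : (QuotientGroup.mk (c * g * c⁻¹) : Co0 ⧸ Subgroup.center Co0) = QuotientGroup.mk h := hq
  have h2 := QuotientGroup.eq.1 h1
  rcases Co0Basic.eq_one_or_neg_of_mem_center h2 with h3 | h3
  · have h4 : c * g * c⁻¹ = h := by rwa [inv_mul_eq_one] at h3
    rw [← h4, inv6_conj]
  · have h4 : h = c * g * c⁻¹ * Co0Basic.negCo0 := by rw [← h3]; group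
    rw [h4, inv6_neg, inv6_conj]

end Cfsg.Agent.H752.CoInv

private theorem dce_211ccdc31933 : _root_.True := by
  try have : _root_.True := by simp only [_root_.Cfsg.Agent.H752.CoInv.off.eq_1]
  exact _root_.True.intro
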